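import Mathlib
import Groth.Prelude.Def_AGF
import Groth.Agent.Lib.Helper4.ActShear
import Groth.Agent.Lib.Helper24.ThirdIso.Main

/-!
# Helper24 — the kernel of the action of `G` on `G/H` is the largest normal subgroup inside `H`
-/

set_option autoImplicit false
universe u

open CategoryTheory MonoidalCategory CartesianMonoidalCategory MonObj GrpObj AlgebraicGeometry Limits

namespace Groth.Agent.Lib.Helper24.ActKer

open Groth.Agent.Lib.Helper4.ActShear

variable {S : Scheme.{u}} {G Q : Over S} [GrpObj G] (a : AlgGrp.Action G Q)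

theorem mul_smul {T : Over S} (g h : T ⟶ G) (x : T ⟶ Q) :
    smul a (g * h) x = smul a g (smul a h x) := mul_smul' a g h x

theorem one_smul {T : Over S} (x : T ⟶ Q) : smul a (1 : T ⟶ G) x = x := one_smul' a x

theorem orbitMap_eq_smul (o : 𝟙_ (Over S) ⟶ Q) {T : Over S} (g : T ⟶ G) :
    g ≫ a.orbitMap o = smul a g (toUnit T ≫ o) := by
  have h1 : a.orbitMap o = smul a (𝟙 G) (toUnit G ≫ o) := rfl
  rw [h1, comp_smul, Category.comp_id, ← Category.assoc]
  congr 2
  exact toUnit_unique _ _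

theorem main {H N : Over S} [GrpObj H] (i : H ⟶ G)
    (o : 𝟙_ (Over S) ⟶ Q) (hQ : AGF.IsQuotient i Q a o)
    [GrpObj N] (n : N ⟶ G)
    (hN : ∀ (T : Over S) (g : T ⟶ G),
      (∃ m : T ⟶ N, m ≫ n = g) ↔
        ∀ (T' : Over S) (s : T' ⟶ T) (x : T' ⟶ Q),
          CartesianMonoidalCategory.lift (s ≫ g) x ≫ a.act = x) :
    AlgGrp.IsNormalHom n ∧ (∃ f : N ⟶ H, f ≫ i = n) ∧
      ∀ (N' : Over S) [GrpObj N'] (n' : N' ⟶ G),
        AlgGrp.IsNormalHom n' → (∃ f : N' ⟶ H, f ≫ i = n') → ∃ f' : N' ⟶ N, f' ≫ n = n' := by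
  obtain ⟨-, hflat, hsurj, hsq⟩ := hQ
  have hN' : ∀ (T : Over S) (g : T ⟶ G), (∃ m : T ⟶ N, m ≫ n = g) ↔
      ∀ (T' : Over S) (s : T' ⟶ T) (x : T' ⟶ Q), smul a (s ≫ g) x = x := hN
  refine ⟨?_, ?_, ?_⟩
  · intro T g m
    have hm := (hN' T (m ≫ n)).1 ⟨m, rfl⟩
    obtain ⟨m', hm'⟩ := (hN' T (g * (m ≫ n) * g⁻¹)).2 (fun T' s x => by
      rw [MonObj.comp_mul, MonObj.comp_mul, GrpObj.comp_inv, mul_smul, mul_smul, hm T' s _,
        ← mul_smul, mul_inv_cancel, one_smul])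
    exact ⟨m', hm'.symm⟩
  · have h1 : n ≫ a.orbitMap o = toUnit N ≫ o := by
      rw [orbitMap_eq_smul]
      have := (hN' N n).1 ⟨𝟙 N, Category.id_comp _⟩ N (𝟙 N) (toUnit N ≫ o)
      rwa [Category.id_comp] at this
    have h2 : (1 : N ⟶ G) ≫ a.orbitMap o = toUnit N ≫ o := by rw [orbitMap_eq_smul, one_smul]
    let l := hsq.lift (1 : N ⟶ G) n (h2.trans h1.symm)
    refine ⟨l ≫ snd G H, ?_⟩
    have h3 : l ≫ (G ◁ i) ≫ μ[G] = n := hsq.lift_snd _ _ _
    have h4 : l ≫ fst G H = 1 := hsq.lift_fst _ _ _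
    have h5 : l ≫ (G ◁ i) ≫ μ[G] = (l ≫ fst G H) * ((l ≫ snd G H) ≫ i) := by
      rw [← Groth.Agent.Lib.Helper24.ThirdIso.lift_mul]
      congr 1
      apply CartesianMonoidalCategory.hom_ext <;> simp
    rw [h5, h4, _root_.one_mul] at h3
    exact h3
  · intro N' _ n' hnorm hfac
    obtain ⟨f, hf⟩ := hfac
    rw [hN']
    intro T' s x
    have sq := IsPullback.of_hasPullback x (a.orbitMap o)
    have sq' := sq.map (Over.forget S)
    simp only [Over.forget_map] at sq'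
    haveI : Flat (pullback.fst x (a.orbitMap o)).left :=
      MorphismProperty.of_isPullback (P := @Flat) sq'.flip hflat
    haveI : Surjective (pullback.fst x (a.orbitMap o)).left :=
      MorphismProperty.of_isPullback (P := @Surjective) sq'.flip hsurj
    haveI : Epi (pullback.fst x (a.orbitMap o)).left := Flat.epi_of_flat_of_surjective _
    haveI : Epi (pullback.fst x (a.orbitMap o)) :=
      (Over.forget S).epi_of_epi_map ‹Epi (pullback.fst x (a.orbitMap o)).left›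
    set c := pullback.fst x (a.orbitMap o)
    set g₀ := pullback.snd x (a.orbitMap o)
    have hcond : c ≫ x = g₀ ≫ a.orbitMap o := pullback.condition
    rw [← cancel_epi c, comp_smul, hcond, orbitMap_eq_smul, ← mul_smul]
    obtain ⟨m', hm'⟩ := hnorm _ g₀⁻¹ (c ≫ s)
    have h6 : (c ≫ s ≫ n') * g₀ = g₀ * ((m' ≫ f) ≫ i) := by
      rw [Category.assoc, hf, ← hm', _root_.inv_inv, Category.assoc]
      group
    rw [h6, ← orbitMap_eq_smul, ← orbitMap_eq_smul]
    exact Groth.Agent.Lib.Helper24.ThirdIso.quot_mul i (a.orbitMap o) hsq g₀ (m' ≫ f)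

end Groth.Agent.Lib.Helper24.ActKer
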