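import Mathlib
import Groth.Prelude.Def_AlgGrp
import Groth.Agent.Lib.Helper4.ActShear
import Groth.Agent.Lib.Helper4.FpqcCov
import Groth.Agent.Lib.Helper24.QuotField.Unique

/-!
# Helper24 — the action of `G` on `X` descends to a faithful action of `G / N`, `N` the kernel of
the action
-/

set_option autoImplicit false
universe u

open CategoryTheory MonoidalCategory CartesianMonoidalCategory MonObj GrpObj AlgebraicGeometry Limits

namespace Groth.Agent.Lib.Helper24.ActKer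

open Groth.Agent.Lib.Helper4.ActShear Groth.Agent.Lib.Helper24.ThirdIso
  Groth.Agent.Lib.Helper24.QuotField

variable {S : Scheme.{u}}

/-- descent of morphisms along fppf coverings -/
theorem exists_desc_of_cov {A B H : Over S} (p : A ⟶ B) (hp : IsCov p) (f : A ⟶ H)
    (hf : ∀ (T : Over S) (z₁ z₂ : T ⟶ A), z₁ ≫ p = z₂ ≫ p → z₁ ≫ f = z₂ ≫ f) :
    ∃ fb : B ⟶ H, p ≫ fb = f := by
  haveI := hp.effectiveEpi
  haveI : Epi p.left := inferInstance
  have hcoh : ∀ {Z : Scheme.{u}} (g₁ g₂ : Z ⟶ A.left), g₁ ≫ p.left = g₂ ≫ p.left →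
      g₁ ≫ f.left = g₂ ≫ f.left := by
    intro Z g₁ g₂ h
    have hS : g₁ ≫ A.hom = g₂ ≫ A.hom := by
      rw [← Over.w p, ← Category.assoc, h, Category.assoc]
    let T : Over S := Over.mk (g₁ ≫ A.hom)
    let x₁ : T ⟶ A := Over.homMk g₁ rfl
    let x₂ : T ⟶ A := Over.homMk g₂ hS.symm
    have hx : x₁ ≫ p = x₂ ≫ p := by
      apply Over.OverMorphism.ext
      exact h
    exact congrArg (fun φ => φ.left) (hf T x₁ x₂ hx)
  let s : B.left ⟶ H.left := EffectiveEpi.desc p.left f.left hcoh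
  have hs : p.left ≫ s = f.left := EffectiveEpi.fac p.left f.left hcoh
  refine ⟨Over.homMk s ?_, ?_⟩
  · rw [← cancel_epi p.left, ← Category.assoc, hs, Over.w f, Over.w p]
  · apply Over.OverMorphism.ext
    exact hs

theorem isCov_whiskerRight {G Q : Over S} (π : G ⟶ Q) (hπ : IsCov π) (X : Over S) :
    IsCov (π ▷ X) := by
  obtain ⟨h1, h2, h3⟩ := hπ
  have sq := (Groth.Agent.Lib.Helper4.FpqcCov.isPullback_whiskerRight X G Q π).flip
  exact ⟨MorphismProperty.of_isPullback (P := @Surjective) sq h1,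
    MorphismProperty.of_isPullback (P := @Flat) sq h2,
    MorphismProperty.of_isPullback (P := @LocallyOfFinitePresentation) sq h3⟩

section

variable {G N Q X : Over S} [GrpObj G] (a : AlgGrp.Action G X)

theorem mul_smul {T : Over S} (g h : T ⟶ G) (x : T ⟶ X) :
    smul a (g * h) x = smul a g (smul a h x) := mul_smul' a g h x

theorem one_smul {T : Over S} (x : T ⟶ X) : smul a (1 : T ⟶ G) x = x := one_smul' a x

/-- an action from its values on points -/
noncomputable def actionOfPts (act : G ⊗ X ⟶ X)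
    (h1 : ∀ (T : Over S) (x : T ⟶ X), lift (1 : T ⟶ G) x ≫ act = x)
    (h2 : ∀ (T : Over S) (g h : T ⟶ G) (x : T ⟶ X),
      lift (g * h) x ≫ act = lift g (lift h x ≫ act) ≫ act) : AlgGrp.Action G X where
  act := act
  one_act := by
    have := h1 (𝟙_ (Over S) ⊗ X) (snd _ _)
    rw [CartesianMonoidalCategory.leftUnitor_hom, ← this]
    congr 1
  mul_act := by
    have := h2 ((G ⊗ G) ⊗ X) (fst _ _ ≫ fst _ _) (fst _ _ ≫ snd _ _) (snd _ _)
    have e1 : (μ[G] ▷ X) = lift ((fst (G ⊗ G) X ≫ fst G G) * (fst (G ⊗ G) X ≫ snd G G))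
        (snd (G ⊗ G) X) := by
      apply CartesianMonoidalCategory.hom_ext
      · simp only [whiskerRight_fst, lift_fst]
        rw [Hom.mul_def, ← comp_lift, lift_fst_snd, Category.comp_id]
      · simp
    have e2 : (α_ G G X).hom ≫ (G ◁ act) ≫ act =
        lift (fst (G ⊗ G) X ≫ fst G G) (lift (fst (G ⊗ G) X ≫ snd G G) (snd (G ⊗ G) X) ≫ act) ≫
          act := by
      rw [← Category.assoc]
      congr 1
      apply CartesianMonoidalCategory.hom_ext
      · simp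
      · simp only [Category.assoc, whiskerLeft_snd, lift_snd]
        rw [← Category.assoc]
        congr 1
        apply CartesianMonoidalCategory.hom_ext <;> simp
    rw [e1, e2]
    exact this

end

section main

variable {G N Q X : Over S} [GrpObj G] [GrpObj N] [GrpObj Q] (a : AlgGrp.Action G X)
  (n : N ⟶ G)
  (hN : ∀ (T : Over S) (g : T ⟶ G),
    (∃ m : T ⟶ N, m ≫ n = g) ↔
      ∀ (T' : Over S) (s : T' ⟶ T) (x : T' ⟶ X), lift (s ≫ g) x ≫ a.act = x)
  (π : G ⟶ Q) [IsMonHom π] (hπ : IsCov π) (hker : AlgGrp.IsKernel n π)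

omit [GrpObj N] in
include hN hπ hker in
theorem exists_act :
    ∃ act : Q ⊗ X ⟶ X, (π ▷ X) ≫ act = a.act := by
  apply exists_desc_of_cov (π ▷ X) (isCov_whiskerRight π hπ X) a.act
  intro T z₁ z₂ hz
  have hz1 := congrArg (fun φ => φ ≫ fst Q X) hz
  have hz2 := congrArg (fun φ => φ ≫ snd Q X) hz
  simp only [Category.assoc, whiskerRight_fst, whiskerRight_snd] at hz1 hz2
  set g₁ := z₁ ≫ fst G X
  set g₂ := z₂ ≫ fst G X
  have e1 : z₁ = lift g₁ (z₁ ≫ snd G X) := by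
    apply CartesianMonoidalCategory.hom_ext <;> simp [g₁]
  have e2 : z₂ = lift g₂ (z₁ ≫ snd G X) := by
    apply CartesianMonoidalCategory.hom_ext
    · simp [g₂]
    · rw [lift_snd, hz2]
  have hm : (g₁⁻¹ * g₂) ≫ π = 1 := by
    rw [MonObj.mul_comp, GrpObj.inv_comp]
    have : g₁ ≫ π = g₂ ≫ π := by
      simpa [g₁, g₂, Category.assoc] using hz1
    rw [this, inv_mul_cancel]
  obtain ⟨m', hm'⟩ := (ker_pts π n hker T _).1 hm
  have h3 := (hN T (g₁⁻¹ * g₂)).1 ⟨m', hm'⟩ T (𝟙 T) (z₁ ≫ snd G X)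
  rw [Category.id_comp] at h3
  change smul a (g₁⁻¹ * g₂) (z₁ ≫ snd G X) = _ at h3
  rw [e2]
  change _ = smul a g₂ (z₁ ≫ snd G X)
  have h4 : g₂ = g₁ * (g₁⁻¹ * g₂) := by group
  rw [h4, mul_smul, h3]
  conv_lhs => rw [e1]
  rfl

omit [GrpObj G] in
theorem action_ext {b b' : AlgGrp.Action Q X} (h : b.act = b'.act) : b = b' := by
  cases b; cases b'; congr

/-- generalized-point form of a morphism `G ⊗ X ⟶ X` -/
noncomputable def sm {G X : Over S} (act : G ⊗ X ⟶ X) {T : Over S} (g : T ⟶ G) (x : T ⟶ X) :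
    T ⟶ X := lift g x ≫ act

omit [GrpObj G] [GrpObj N] [GrpObj Q] in
theorem comp_sm {G X : Over S} (act : G ⊗ X ⟶ X) {T T' : Over S} (c : T' ⟶ T) (g : T ⟶ G)
    (x : T ⟶ X) : c ≫ sm act g x = sm act (c ≫ g) (c ≫ x) := by
  unfold sm
  rw [← Category.assoc, comp_lift]

omit [GrpObj N] in
include hN hπ hker in
theorem main :
    (∃! b : AlgGrp.Action Q X, (π ▷ X) ≫ b.act = a.act) ∧
    ∀ b : AlgGrp.Action Q X, (π ▷ X) ≫ b.act = a.act →
      (∀ (T : Over S) (q : T ⟶ Q),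
        (∀ (T' : Over S) (s : T' ⟶ T) (x : T' ⟶ X), lift (s ≫ q) x ≫ b.act = x) → q = 1) ∧
      (Surjective (lift (snd G X) a.act).left ↔ Surjective (lift (snd Q X) b.act).left) ∧
      (IsDominant (lift (snd G X) a.act).left ↔ IsDominant (lift (snd Q X) b.act).left) := by
  obtain ⟨act, hact⟩ := exists_act a n hN π hπ hker
  have hpt : ∀ (act : Q ⊗ X ⟶ X), (π ▷ X) ≫ act = a.act → ∀ {T : Over S} (g : T ⟶ G)
      (x : T ⟶ X), sm act (g ≫ π) x = sm a.act g x := by
    intro act hact T g x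
    unfold sm
    rw [← hact, ← Category.assoc, lift_whiskerRight]
  have hlift : ∀ {T : Over S} (q : T ⟶ Q), ∃ (T' : Over S) (c : T' ⟶ T) (g : T' ⟶ G),
      IsCov c ∧ g ≫ π = c ≫ q := fun q => exists_lift π hπ q
  have hepi : ∀ {T T' Y : Over S} (c : T' ⟶ T), IsCov c → ∀ (u v : T ⟶ Y),
      c ≫ u = c ≫ v → u = v := fun c hc u v h => by
    haveI := hc.epi
    exact (cancel_epi c).1 h
  have h1 : ∀ (T : Over S) (x : T ⟶ X), lift (1 : T ⟶ Q) x ≫ act = x := by
    intro T x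
    have e : (1 : T ⟶ Q) = (1 : T ⟶ G) ≫ π := (MonObj.one_comp π).symm
    rw [e]
    exact (hpt act hact 1 x).trans (one_smul a x)
  have h2 : ∀ (T : Over S) (q₁ q₂ : T ⟶ Q) (x : T ⟶ X),
      lift (q₁ * q₂) x ≫ act = lift q₁ (lift q₂ x ≫ act) ≫ act := by
    intro T q₁ q₂ x
    obtain ⟨T₁, c₁, g₁, hc₁, hg₁⟩ := hlift q₁
    obtain ⟨T₂, c₂, g₂, hc₂, hg₂⟩ := hlift (c₁ ≫ q₂)
    apply hepi (c₂ ≫ c₁) (hc₂.comp hc₁)
    change (c₂ ≫ c₁) ≫ sm act (q₁ * q₂) x = (c₂ ≫ c₁) ≫ sm act q₁ (sm act q₂ x)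
    have e1 : (c₂ ≫ c₁) ≫ q₁ = (c₂ ≫ g₁) ≫ π := by
      rw [Category.assoc, Category.assoc, hg₁]
    have e2 : (c₂ ≫ c₁) ≫ q₂ = g₂ ≫ π := by
      rw [Category.assoc, hg₂]
    rw [comp_sm, comp_sm, comp_sm, MonObj.comp_mul, e1, e2, ← MonObj.mul_comp, hpt act hact,
      hpt act hact, hpt act hact]
    exact mul_smul a _ _ _
  let b : AlgGrp.Action Q X := actionOfPts act h1 h2
  have hb : (π ▷ X) ≫ b.act = a.act := hact
  haveI := (isCov_whiskerRight π hπ X).epi
  refine ⟨⟨b, hb, fun b' hb' => action_ext ?_⟩, fun b' hb' => ⟨?_, ?_, ?_⟩⟩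
  · rw [← cancel_epi (π ▷ X), hb', hb]
  · intro T q hq
    obtain ⟨T₁, c, g, hc, hg⟩ := hlift q
    have hm : ∃ m : T₁ ⟶ N, m ≫ n = g := (hN T₁ g).2 (fun T' s x => by
      have := hpt b'.act hb' (s ≫ g) x
      unfold sm at this
      rw [← this, Category.assoc, hg, ← Category.assoc]
      exact hq T' (s ≫ c) x)
    have hgπ : g ≫ π = 1 := (ker_pts π n hker T₁ g).2 hm
    apply hepi c hc
    rw [← hg, hgπ, MonObj.comp_one]
  · have hΓ : lift (snd G X) a.act = (π ▷ X) ≫ lift (snd Q X) b'.act := by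
      apply CartesianMonoidalCategory.hom_ext
      · simp
      · simp [hb']
    rw [hΓ, Over.comp_left]
    haveI : Surjective (π ▷ X).left := (isCov_whiskerRight π hπ X).1
    exact Surjective.comp_iff _ _
  · have hΓ : lift (snd G X) a.act = (π ▷ X) ≫ lift (snd Q X) b'.act := by
      apply CartesianMonoidalCategory.hom_ext
      · simp
      · simp [hb']
    rw [hΓ, Over.comp_left]
    haveI : Surjective (π ▷ X).left := (isCov_whiskerRight π hπ X).1
    exact IsDominant.comp_iff _ _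

end main

end Groth.Agent.Lib.Helper24.ActKer
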