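import Groth.Statements.S14645
import Groth.Agent.Lib.Helper24.Homog.KPoints
import Groth.Agent.Lib.Helper24.Orbit.Quotient
import Groth.Agent.Lib.Helper4.AnSurj

/-!
# Homogeneity ⟺ transitivity on geometric points (S14645)
-/

set_option autoImplicit false
universe u
open CategoryTheory MonoidalCategory CartesianMonoidalCategory MonObj GrpObj AlgebraicGeometry Limits Topology

namespace Groth.Agent.Lib.Helper24.ActKer

variable {k : Type u} [Field k] {G X : Over (Spec (CommRingCat.of k))}
  (K : Type u) [Field K] [Algebra k K]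

/-- the `K`-point object -/
noncomputable abbrev pt : Over (Spec (CommRingCat.of k)) :=
  Over.mk (Spec.map (CommRingCat.ofHom (algebraMap k K)))

variable {K}

theorem surjective_of_transitive [LocallyOfFiniteType G.hom] [QuasiCompact G.hom]
    [LocallyOfFiniteType X.hom] [QuasiCompact X.hom] [IsSeparated X.hom] [IsAlgClosed K]
    (act : G ⊗ X ⟶ X)
    (h : ∀ x y : pt (k := k) K ⟶ X, ∃ g : pt (k := k) K ⟶ G, lift g x ≫ act = y) :
    Surjective (lift (snd G X) act).left := by
  set Φ := lift (snd G X) act with hΦ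
  haveI h1 : LocallyOfFiniteType (G ⊗ X).hom := by
    rw [Over.tensorObj_hom]; infer_instance
  haveI h2 : QuasiCompact (G ⊗ X).hom := by
    rw [Over.tensorObj_hom]; infer_instance
  haveI h3 : LocallyOfFiniteType (X ⊗ X).hom := by
    rw [Over.tensorObj_hom]; infer_instance
  haveI h4 : IsSeparated (X ⊗ X).hom := by
    rw [Over.tensorObj_hom]; infer_instance
  have hw : Φ.left ≫ (X ⊗ X).hom = (G ⊗ X).hom := Over.w Φ
  haveI h5 : LocallyOfFiniteType Φ.left := by
    haveI : LocallyOfFiniteType (Φ.left ≫ (X ⊗ X).hom) := by rw [hw]; infer_instance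
    exact locallyOfFiniteType_of_comp Φ.left (X ⊗ X).hom
  haveI h6 : QuasiCompact Φ.left := by
    haveI : QuasiCompact (Φ.left ≫ (X ⊗ X).hom) := by rw [hw]; infer_instance
    exact QuasiCompact.of_comp Φ.left (X ⊗ X).hom
  haveI h7 : IsLocallyNoetherian (X ⊗ X).left :=
    LocallyOfFiniteType.isLocallyNoetherian (X ⊗ X).hom
  haveI h8 : LocallyOfFinitePresentation Φ.left := Groth.Agent.Lib.Helper4.AnSurj.lfp_of_noeth _
  haveI h9 : JacobsonSpace (X ⊗ X).left := LocallyOfFiniteType.jacobsonSpace (X ⊗ X).hom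
  have hc : IsLocallyConstructible (Set.range Φ.left.base) := by
    have := Φ.left.isLocallyConstructible_image (s := Set.univ) IsLocallyConstructible.univ
    rwa [Set.image_univ] at this
  have huniv : Set.range Φ.left.base = Set.univ := by
    apply Groth.Agent.Lib.Helper4.AnSurj.eq_univ_of_isLocallyConstructible hc
    intro z hz
    obtain ⟨w, hw1, hw2⟩ := Homog.exists_Kpoint_of_isClosed_singleton (K := K) (X ⊗ X).hom z hz
    let w' : pt (k := k) K ⟶ X ⊗ X := Over.homMk w hw1
    obtain ⟨g, hg⟩ := h (w' ≫ fst X X) (w' ≫ snd X X)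
    have e : lift g (w' ≫ fst X X) ≫ Φ = w' := by
      apply CartesianMonoidalCategory.hom_ext
      · rw [Category.assoc, hΦ, lift_fst, lift_snd]
      · rw [Category.assoc, hΦ, lift_snd, hg]
    have e' := congrArg (fun m => m.left) e
    simp only [Over.comp_left] at e'
    let c : ↥(Spec (CommRingCat.of K)) := IsLocalRing.closedPoint K
    refine ⟨(lift g (w' ≫ fst X X)).left.base c, ?_⟩
    rw [← Scheme.Hom.comp_apply, e']
    exact hw2 c
  exact ⟨Set.range_eq_univ.1 huniv⟩

theorem transitive_of_surjective [LocallyOfFiniteType G.hom] [QuasiCompact G.hom]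
    [LocallyOfFiniteType X.hom] [QuasiCompact X.hom] [IsSeparated X.hom] [IsAlgClosed K]
    (act : G ⊗ X ⟶ X) (hs : Surjective (lift (snd G X) act).left)
    (x y : pt (k := k) K ⟶ X) : ∃ g : pt (k := k) K ⟶ G, lift g x ≫ act = y := by
  set Φ := lift (snd G X) act with hΦ
  haveI h1 : LocallyOfFiniteType (G ⊗ X).hom := by
    rw [Over.tensorObj_hom]; infer_instance
  have hw : Φ.left ≫ (X ⊗ X).hom = (G ⊗ X).hom := Over.w Φ
  haveI h5 : LocallyOfFiniteType Φ.left := by
    haveI : LocallyOfFiniteType (Φ.left ≫ (X ⊗ X).hom) := by rw [hw]; infer_instance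
    exact locallyOfFiniteType_of_comp Φ.left (X ⊗ X).hom
  haveI := hs
  obtain ⟨g₀, hg₀⟩ := Groth.Agent.Lib.Helper24.Orbit.exists_Kpoint_lift Φ.left (lift x y).left
  let g' : pt (k := k) K ⟶ G ⊗ X := Over.homMk g₀ (by
    change g₀ ≫ (G ⊗ X).hom = _
    rw [← hw, ← Category.assoc, hg₀]
    exact Over.w (lift x y))
  have e : g' ≫ Φ = lift x y := by
    apply Over.OverMorphism.ext
    exact hg₀
  have e1 : g' ≫ snd G X = x := by
    have := congrArg (· ≫ fst X X) e
    simpa [hΦ] using this
  have e2 : g' ≫ act = y := by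
    have := congrArg (· ≫ snd X X) e
    simpa [hΦ] using this
  refine ⟨g' ≫ fst G X, ?_⟩
  have : lift (g' ≫ fst G X) x = g' := by
    apply CartesianMonoidalCategory.hom_ext
    · simp
    · rw [lift_snd, e1]
  rw [this, e2]

end Groth.Agent.Lib.Helper24.ActKer
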